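import Groth.Agent.Lib.Ample.CocPullback
import Groth.Agent.Lib.HomSh.QCoh
import Groth.Agent.Lib.HomSh.Criterion

/-!
# The dual of an invertible module: generators, cocycles, pullback
-/

universe u

set_option autoImplicit false
set_option linter.all false
set_option backward.isDefEq.respectTransparency false

open AlgebraicGeometry CategoryTheory CategoryTheory.Limits TopologicalSpace Opposite
open GrothLib.InvExt (mres fres IsGen)

noncomputable section

namespace GrothLib.InvDual

variable {X : Scheme.{u}} {M : X.Modules} {V : X.Opens} {e : Γ(M, V)}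

theorem smul_germ_injective (he : IsGen M V e) {y : X} (hy : y ∈ V) {c : X.presheaf.stalk y}
    (h : c • M.presheaf.germ V y hy e = 0) : c = 0 := by
  obtain ⟨T, hT, r, rfl⟩ := TopCat.Presheaf.exists_germ_eq X.presheaf c
  have hy' : y ∈ T ⊓ V := ⟨hT, hy⟩
  have h' : M.presheaf.germ (T ⊓ V) y hy' (X.presheaf.map (homOfLE (inf_le_left : T ⊓ V ≤ T)).op r • mres M (inf_le_right : T ⊓ V ≤ V) e) = 0 := by
    rw [Mero.germ_smul, TopCat.Presheaf.germ_res_apply, TopCat.Presheaf.germ_res_apply]
    exact h
  obtain ⟨W, hW, hyW, hz⟩ := HomSh.exists_nhd_zero M hy' (fun _ : Unit => _) fun _ => h'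
  have h0 := hz ()
  change mres M hW _ = 0 at h0
  rw [InvExt.mres_smul, InvExt.mres_mres] at h0
  have h1 : fres X hW (fres X inf_le_left r) = (0 : Γ(X, W)) :=
    he.smul_left_injective _ (h0.trans (zero_smul _ _).symm)
  rw [InvExt.fres_fres] at h1
  rw [← TopCat.Presheaf.germ_res_apply X.presheaf (homOfLE (hW.trans inf_le_left)) y hyW r]
  exact (congrArg (X.presheaf.germ W y hyW) h1).trans (map_zero _)

theorem genOn (he : IsGen M V e) : HomSh.GenOn M V (fun _ : PUnit.{u + 1} => e) := by
  intro y hy
  refine eq_top_iff.2 fun v _ => ?_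
  obtain ⟨T, hT, s, rfl⟩ := TopCat.Presheaf.exists_germ_eq M.presheaf v
  obtain ⟨r, hr⟩ := he.exists_smul_eq (inf_le_right : T ⊓ V ≤ V) (mres M inf_le_left s)
  have h := congrArg (M.presheaf.germ (T ⊓ V) y ⟨hT, hy⟩) hr
  rw [Mero.germ_smul, TopCat.Presheaf.germ_res_apply, TopCat.Presheaf.germ_res_apply] at h
  rw [h]
  exact Submodule.smul_mem _ _ (Submodule.subset_span ⟨PUnit.unit, rfl⟩)

theorem relOn (he : IsGen M V e) :
    HomSh.RelOn M (fun _ : PUnit.{u + 1} => e) (fun k : PEmpty.{u + 1} => k.elim) := by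
  intro y hy
  refine ⟨fun k => k.elim, fun c hc => ?_⟩
  have : c = 0 := funext fun i => smul_germ_injective he hy (by simpa using hc)
  rw [this]
  exact zero_mem _

/-- The value of a local linear form on the generator. -/
def val {W : X.Opens} (h : W ≤ V) (e : Γ(M, V)) (t : Γ(RefHull.dual M, W)) : Γ(Coh.structureModule X, W) :=
  HomSh.applyGensₗ (G := Coh.structureModule X) (m := fun _ : PUnit.{u + 1} => e) h t PUnit.unit

theorem germ_val {W : X.Opens} (h : W ≤ V) (t : Γ(RefHull.dual M, W)) (y : X) (hy : y ∈ W) :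
    (Coh.structureModule X).presheaf.germ W y hy (val h e t) =
      t.1 ⟨y, hy⟩ (M.presheaf.germ V y (h hy) e) :=
  HomSh.germ_applyGens (m := fun _ : PUnit.{u + 1} => e) h t PUnit.unit y hy

theorem val_smul {W : X.Opens} (h : W ≤ V) (a : Γ(X, W)) (t : Γ(RefHull.dual M, W)) :
    val h e (a • t) = a • val h e t := by
  unfold val
  rw [map_smul]
  rfl

theorem val_mres {W T : X.Opens} (h : W ≤ V) (h' : T ≤ W) (t : Γ(RefHull.dual M, W)) :
    val (h'.trans h) e (mres (RefHull.dual M) h' t) = mres (Coh.structureModule X) h' (val h e t) := by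
  refine TopCat.Presheaf.section_ext (C := Ab.{u}) (X := X.carrier)
    ⟨(Coh.structureModule X).presheaf, (Coh.structureModule X).isSheaf⟩ T _ _ fun y hy => ?_
  change (Coh.structureModule X).presheaf.germ T y hy _ = (Coh.structureModule X).presheaf.germ T y hy _
  rw [germ_val, TopCat.Presheaf.germ_res_apply, germ_val]
  rfl

theorem val_base_change {W V' : X.Opens} (h : W ≤ V) (h' : W ≤ V') {e' : Γ(M, V')} {g : Γ(X, W)}
    (heq : mres M h' e' = g • mres M h e) (t : Γ(RefHull.dual M, W)) :
    val h' e' t = g • val h e t := by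
  refine TopCat.Presheaf.section_ext (C := Ab.{u}) (X := X.carrier)
    ⟨(Coh.structureModule X).presheaf, (Coh.structureModule X).isSheaf⟩ W _ _ fun y hy => ?_
  change (Coh.structureModule X).presheaf.germ W y hy _ = (Coh.structureModule X).presheaf.germ W y hy _
  rw [Mero.germ_smul, germ_val, germ_val, ← map_smul]
  have := congrArg (M.presheaf.germ W y hy) heq
  rw [Mero.germ_smul, TopCat.Presheaf.germ_res_apply, TopCat.Presheaf.germ_res_apply] at this
  rw [this]

theorem val_injective (he : IsGen M V e) {W : X.Opens} (h : W ≤ V) : Function.Injective (val (M := M) h e) :=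
  fun t t' hh => HomSh.applyGensₗ_injective (G := Coh.structureModule X) h (genOn he) (funext fun _ => hh)

theorem val_surjective (he : IsGen M V e) {W : X.Opens} (h : W ≤ V) : Function.Surjective (val (M := M) h e) := by
  intro n
  obtain ⟨g, hg⟩ := HomSh.exists_section_of_relOn M (Coh.structureModule X) (genOn he) (relOn he) h (le_refl W)
    (fun _ => n) (fun k => k.elim)
  refine ⟨g, TopCat.Presheaf.section_ext (C := Ab.{u}) (X := X.carrier)
    ⟨(Coh.structureModule X).presheaf, (Coh.structureModule X).isSheaf⟩ W _ _ fun y hy => ?_⟩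
  change (Coh.structureModule X).presheaf.germ W y hy _ = (Coh.structureModule X).presheaf.germ W y hy _
  rw [germ_val]
  exact hg y hy PUnit.unit

/-- The dual generator. -/
theorem exists_dual_gen (he : IsGen M V e) :
    ∃ θ : Γ(RefHull.dual M, V), IsGen (RefHull.dual M) V θ ∧
      val le_rfl e θ = (1 : Γ(X, V)) := by
  obtain ⟨θ, hθ⟩ := val_surjective he le_rfl (1 : Γ(X, V))
  refine ⟨θ, fun W h => ?_, hθ⟩
  have key : ∀ c : Γ(X, W), val h e (c • mres (RefHull.dual M) h θ) = c := by
    intro c
    rw [val_smul, show val h e (mres (RefHull.dual M) h θ) = mres (Coh.structureModule X) h (val le_rfl e θ)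
      from val_mres le_rfl h θ, hθ]
    show c * X.presheaf.map (homOfLE h).op (1 : Γ(X, V)) = c
    rw [map_one, mul_one]
  exact ⟨fun a b hab => (key a).symm.trans ((congrArg (val h e) hab).trans (key b)),
    fun t => ⟨val h e t, val_injective he h (key _)⟩⟩

end GrothLib.InvDual

namespace GrothLib.Ample.Cocycle

variable {X Y : Scheme.{u}} (c : Cocycle X)

/-- The inverse cocycle. -/
def dinv : Cocycle X where
  ι := c.ι
  D := c.D
  g i j := res (le_inf inf_le_right inf_le_left) (c.g j i)
  cover := c.cover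
  self i W h := by
    rw [res_res]
    exact c.self i W h
  change i j k W hi hj hk := by
    simp only [res_res]
    rw [c.change k j i W hk hj hi, mul_comm]

theorem dinv_G (i j : c.ι) {W : X.Opens} (hi : W ≤ c.D i) (hj : W ≤ c.D j) :
    c.dinv.G i j hi hj = c.G j i hj hi := res_res _ _ _

theorem dinv_comap (f : Y ⟶ X) : (c.comap f).dinv = c.dinv.comap f := by
  have h : ∀ i k : c.ι, (c.comap f).dinv.g i k = (c.dinv.comap f).g i k := by
    intro i k
    show res _ ((f.appLE _ _ _).hom (c.g k i)) = (f.appLE _ _ _).hom (res _ (c.g k i))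
    erw [res_appLE, appLE_res]
  unfold dinv comap
  congr 1
  exact funext fun i => funext fun k => h i k

/-- The dual of the module of a cocycle is the module of the inverse cocycle. -/
theorem nonempty_dual_iso {L : X.Modules} (d : L ≅ c.twist 1) :
    Nonempty (RefHull.dual L ≅ c.dinv.twist 1) := by
  let e : ∀ i, Γ(L, c.D i) := fun i => d.inv.app (c.D i) (c.base 1 i le_rfl)
  have hgen : ∀ i, IsGen L (c.D i) (e i) := by
    intro i W hW
    have h : (fun a : Γ(X, W) => a • mres L hW (e i)) =
        (fun t => d.inv.app W t) ∘ fun a : Γ(X, W) => a • mres (c.twist 1) hW (c.base 1 i le_rfl) := by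
      funext a
      simp only [Function.comp, e]
      rw [show mres L hW (d.inv.app (c.D i) (c.base 1 i le_rfl)) = d.inv.app W (mres (c.twist 1) hW (c.base 1 i le_rfl))
        from (app_mres d.inv hW _).symm]
      exact (app_smul d.inv a _).symm
    rw [h]
    refine Function.Bijective.comp ?_ (c.isGen_base 1 i le_rfl W hW)
    exact (ConcreteCategory.isIso_iff_bijective _).1
      (Scheme.Modules.Hom.isIso_iff_isIso_app.1 (inferInstance : IsIso d.inv) W)
  choose θ hθgen hθ using fun i => InvDual.exists_dual_gen (hgen i)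
  have hfam : c.dinv.IsFamily 1 (M := RefHull.dual L) θ := by
    intro (i : c.ι) (j : c.ι) W (hi : W ≤ c.D i) (hj : W ≤ c.D j)
    refine InvDual.val_injective (hgen i) hi ?_
    have hs : mres L hi (e i) = c.G j i hj hi • mres L hj (e j) := by
      simp only [e]
      rw [← app_mres d.inv hi, ← app_mres d.inv hj, ← app_smul d.inv]
      congr 1
      show c.sectRes hi _ = c.G j i hj hi • c.sectRes hj _
      rw [sectRes_base, sectRes_base]
      simpa using c.base_eq_smul_base 1 j i hj hi
    have v1 : ∀ l (hl : W ≤ c.D l), InvDual.val hl (e l) (mres (RefHull.dual L) hl (θ l)) = (1 : Γ(X, W)) := by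
      intro l hl
      refine (InvDual.val_mres le_rfl hl (θ l)).trans ?_
      rw [hθ l]
      exact map_one (X.presheaf.map (homOfLE hl).op).hom
    rw [InvDual.val_smul, pow_one, dinv_G, InvDual.val_base_change hj hi hs]
    exact congrArg _ ((v1 j hj).trans (v1 i hi).symm)
  haveI := c.dinv.isIso_homOfFamily hfam hθgen
  exact ⟨(asIso (c.dinv.homOfFamily hfam)).symm⟩

/-- The dual of an invertible module commutes with pullback. -/
theorem _root_.GrothLib.InvDual.nonempty_dual_pullback_iso (f : Y ⟶ X) {L : X.Modules} (hL : PicF.IsInvertible L) :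
    Nonempty (RefHull.dual ((Scheme.Modules.pullback f).obj L) ≅ (Scheme.Modules.pullback f).obj (RefHull.dual L)) := by
  obtain ⟨c, ⟨d⟩⟩ := exists_cocycle hL
  obtain ⟨d'⟩ := c.nonempty_pullback_iso f d
  obtain ⟨a⟩ := (c.comap f).nonempty_dual_iso d'
  obtain ⟨b⟩ := c.nonempty_dual_iso d
  obtain ⟨b'⟩ := c.dinv.nonempty_pullback_iso f b
  exact ⟨a ≪≫ eqToIso (by rw [dinv_comap]) ≪≫ b'.symm⟩

end GrothLib.Ample.Cocycle
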